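import Groth.Agent.ProEt91.Cover
import Groth.Agent.WE24.Field
import Mathlib.FieldTheory.IsSepClosed

universe u

open CategoryTheory CategoryTheory.Limits AlgebraicGeometry Opposite

namespace Groth.Agent.ProEt91

set_option backward.isDefEq.respectTransparency.types false

theorem isWContractible_sepClosed (k : Type u) [Field k] [IsSepClosed k] :
    EtPBC.IsWContractible k := by
  intro B _ _ hff hwe
  obtain ⟨q, -⟩ := PrimeSpectrum.comap_surjective_of_faithfullyFlat (A := k) (B := B) ⟨⊥, Ideal.isPrime_bot⟩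
  obtain ⟨M, hM, -⟩ := Ideal.exists_le_maximal q.asIdeal q.isPrime.ne_top
  letI : Field (B ⧸ M) := Ideal.Quotient.field M
  have : Algebra.IsSeparable k (B ⧸ M) := ⟨fun x => by
    obtain ⟨b, rfl⟩ := Ideal.Quotient.mk_surjective x
    exact (WE24.isSeparable_of_weaklyEtale (K := k) b).of_dvd (minpoly.dvd k _ (by
      rw [← Ideal.Quotient.mkₐ_eq_mk k, Polynomial.aeval_algHom_apply, minpoly.aeval, map_zero]))⟩
  let e : k ≃ₐ[k] B ⧸ M := AlgEquiv.ofBijective (Algebra.ofId k (B ⧸ M))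
    ⟨(algebraMap k (B ⧸ M)).injective, IsSepClosed.algebraMap_surjective k (B ⧸ M)⟩
  exact ⟨e.symm.toAlgHom.comp (Ideal.Quotient.mkₐ k M)⟩

theorem exists_section_point {k : Type u} [Field k] [IsSepClosed k] {W : Scheme.{u}} [IsAffine W]
    [Nonempty W] (q : W ⟶ Spec (CommRingCat.of k)) [WeaklyEtale q] :
    ∃ s : Spec (CommRingCat.of k) ⟶ W, s ≫ q = 𝟙 _ := by
  have : Surjective q := ⟨fun x => ⟨Classical.arbitrary W, Subsingleton.elim _ _⟩⟩
  exact exists_section_of_isWContractible (isWContractible_of_ringEquiv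
    (Scheme.ΓSpecIso (CommRingCat.of k)).symm.commRingCatIsoToRingEquiv (isWContractible_sepClosed k)) q

theorem exists_geometric_lift {X : Scheme.{u}} (U : X.ProEt) (S : Sieve U)
    (hS : S ∈ Scheme.ProEt.topology X U) {k : Type u} [Field k] [IsSepClosed k]
    (ξ : Spec (CommRingCat.of k) ⟶ U.left) :
    ∃ (V : X.ProEt) (g : V ⟶ U) (ξ' : Spec (CommRingCat.of k) ⟶ V.left),
      S.arrows g ∧ ξ' ≫ g.left = ξ := by
  obtain ⟨R, hR, hle⟩ := mem_topology_iff_exists.1 hS
  obtain ⟨ι, Y, f, rfl⟩ := R.exists_eq_ofArrows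
  have hR' : (Presieve.ofArrows Y f).map (Scheme.ProEt.forget X ⋙ Over.forget X) ∈
      Scheme.proetalePrecoverage U.left := hR
  rw [Presieve.map_ofArrows] at hR'
  obtain ⟨hsur, hwe⟩ := (Scheme.ofArrows_mem_precoverage_iff _).1 hR'.2
  obtain ⟨x⟩ : Nonempty (Spec (CommRingCat.of k)) := inferInstance
  obtain ⟨i, y, hy⟩ := hsur (ξ x)
  have : WeaklyEtale (f i).left := hwe i
  obtain ⟨z, -, -⟩ := Scheme.Pullback.exists_preimage_pullback x y (f := ξ) (g := (f i).left) hy.symm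
  obtain ⟨_, ⟨W, hW, rfl⟩, hz, -⟩ := (pullback ξ (f i).left).isBasis_affineOpens.exists_subset_of_mem_open
    (a := z) (Set.mem_univ z) isOpen_univ
  let W' : (pullback ξ (f i).left).Opens := W
  have : IsAffine W'.toScheme := hW
  have : Nonempty W'.toScheme := ⟨⟨z, hz⟩⟩
  obtain ⟨s, hs⟩ := exists_section_point (W'.ι ≫ pullback.fst ξ (f i).left)
  refine ⟨Y i, f i, s ≫ W'.ι ≫ pullback.snd ξ (f i).left, hle _ _ ⟨i⟩, ?_⟩
  calc (s ≫ W'.ι ≫ pullback.snd ξ (f i).left) ≫ (f i).left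
      = (s ≫ W'.ι ≫ pullback.fst ξ (f i).left) ≫ ξ := by
        simp only [Category.assoc, pullback.condition]
    _ = ξ := (congrArg (· ≫ ξ) hs).trans (Category.id_comp _)

end Groth.Agent.ProEt91
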