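import Groth.Prelude.Def_ProEtS

universe u

open CategoryTheory CategoryTheory.Limits AlgebraicGeometry

namespace Groth.Agent.ProEt91

theorem mem_topology_of (X : Scheme.{u}) {U : X.ProEt} (S : Sieve U)
    (h : S.functorPushforward (Scheme.ProEt.forget X) ∈
        (Scheme.proetaleTopology.{u}.over X) ((Scheme.ProEt.forget X).obj U)) :
    S ∈ Scheme.ProEt.topology X U := by
  have h2 : Scheme.ProEt.topology X =
      (MorphismProperty.Over.forget @WeaklyEtale ⊤ X).restrictedTopology _ :=
    MorphismProperty.toGrothendieck_comap_forget_eq_restrictedTopology (S := X) _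
      Scheme.proetalePrecoverage_le_precoverage_weaklyEtale
  rw [h2]
  exact Functor.mem_restrictedTopology_of_functorPushforward_mem h

theorem epsCont (X : Scheme.{u}) : ProEtS.EpsCont X := by
  let F := ProEtS.eps X
  let G := Scheme.ProEt.forget X
  have : PreservesFiniteLimits (F ⋙ G) :=
    inferInstanceAs (PreservesFiniteLimits (MorphismProperty.Over.forget EtCoh.etaleMP.{u} ⊤ X))
  have : PreservesFiniteLimits F :=
    ⟨fun J _ _ => preservesLimitsOfShape_of_reflects_of_preserves F G⟩
  have : RepresentablyFlat F := flat_of_preservesFiniteLimits F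
  rw [ProEtS.EpsCont, Functor.isContinuous_iff_coverPreserving]
  refine ⟨fun {U S} hS => ?_⟩
  refine mem_topology_of _ _ ?_
  rw [← Sieve.functorPushforward_comp]
  have h1 : S.functorPushforward (MorphismProperty.Over.forget EtCoh.etaleMP.{u} ⊤ X) ∈
      (Scheme.etaleTopology.{u}.over X) _ := Functor.mem_restrictedTopology_iff.1 hS
  have h2 := Scheme.etaleTopology_le_proetaleTopology.{u}
  exact h2 _ h1

theorem pCont {X Y : Scheme.{u}} (f : X ⟶ Y) : ProEtS.PCont f := by
  let F := ProEtS.bcP f
  let G := Scheme.ProEt.forget X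
  have hadj : PreservesLimitsOfSize.{0, 0} (CategoryTheory.Over.pullback f) :=
    (CategoryTheory.Over.mapPullbackAdj f).rightAdjoint_preservesLimits
  have : PreservesFiniteLimits (Scheme.ProEt.forget Y ⋙ CategoryTheory.Over.pullback f) :=
    comp_preservesFiniteLimits _ _
  have : PreservesFiniteLimits (F ⋙ G) :=
    inferInstanceAs (PreservesFiniteLimits (Scheme.ProEt.forget Y ⋙ CategoryTheory.Over.pullback f))
  have : PreservesFiniteLimits F :=
    ⟨fun J _ _ => preservesLimitsOfShape_of_reflects_of_preserves F G⟩
  have : RepresentablyFlat F := flat_of_preservesFiniteLimits F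
  rw [ProEtS.PCont, Functor.isContinuous_iff_coverPreserving]
  have h1 : CoverPreserving (Scheme.ProEt.topology Y) (Scheme.proetaleTopology.over X)
      (Scheme.ProEt.forget Y ⋙ CategoryTheory.Over.pullback f) :=
    CoverPreserving.comp _ (Scheme.proetaleTopology.over Y)
      (CoverPreserving.of_isContinuous (F := Scheme.ProEt.forget Y) (Scheme.ProEt.topology Y)
        (Scheme.proetaleTopology.over Y))
      (GrothendieckTopology.coverPreserving_overPullback _ f)
  refine ⟨fun {U S} hS => ?_⟩
  refine mem_topology_of _ _ ?_
  rw [← Sieve.functorPushforward_comp]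
  exact h1.cover_preserve hS

end Groth.Agent.ProEt91
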