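import Groth.Agent.ProEt91.WC
import Groth.Agent.Germs91.WCover

universe u

open CategoryTheory CategoryTheory.Limits AlgebraicGeometry Opposite

namespace Groth.Agent.ProEt91

set_option backward.isDefEq.respectTransparency.types false

variable {X : Scheme.{u}}

theorem isWContractible_of_ringEquiv {A A' : Type u} [CommRing A] [CommRing A'] (e : A ≃+* A')
    (h : EtPBC.IsWContractible A) : EtPBC.IsWContractible A' := by
  intro B _ _ hff hwe
  letI : Algebra A A' := e.toRingHom.toAlgebra
  letI : Algebra A B := ((algebraMap A' B).comp e.toRingHom).toAlgebra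
  have : IsScalarTower A A' B := IsScalarTower.of_algebraMap_eq' rfl
  let e' : A ≃ₐ[A] A' := AlgEquiv.ofRingEquiv (f := e) fun _ => rfl
  have : Algebra.Etale A A' := Algebra.Etale.of_equiv e'
  have : Module.FaithfullyFlat A A' := Module.FaithfullyFlat.of_linearEquiv A A e'.toLinearEquiv.symm
  have : Module.FaithfullyFlat A B := Module.FaithfullyFlat.trans A A' B
  have : Algebra.WeaklyEtale A B := Algebra.WeaklyEtale.trans A A' B
  obtain ⟨ρ⟩ := h B inferInstance inferInstance
  refine ⟨{ e.toRingHom.comp ρ.toRingHom with commutes' := fun a => ?_ }⟩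
  obtain ⟨a, rfl⟩ := e.surjective a
  show e (ρ (algebraMap A B a)) = e a
  rw [ρ.commutes]
  rfl

/-- Over an affine open there is an affine weakly etale surjective w-contractible scheme. -/
theorem exists_wc_over (U : Scheme.{u}) [IsAffine U] :
    ∃ (V : Scheme.{u}) (q : V ⟶ U) (_ : IsAffine V), WeaklyEtale q ∧ Surjective q ∧
      EtPBC.IsWContractible ↥Γ(V, ⊤) := by
  obtain ⟨D, _, _, hff, hie, hwc⟩ := Germs91.exists_wContractible_cover ↥Γ(U, ⊤)
  have := Ind91.weaklyEtale_of_isIndEtale hie
  have := WE91.weaklyEtale_SpecMap_algebraMap ↥Γ(U, ⊤) D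
  have : Surjective (Spec.map (CommRingCat.ofHom (algebraMap ↥Γ(U, ⊤) D))) :=
    ⟨PrimeSpectrum.comap_surjective_of_faithfullyFlat⟩
  exact ⟨Spec (CommRingCat.of D), Spec.map (CommRingCat.ofHom (algebraMap ↥Γ(U, ⊤) D)) ≫ U.isoSpec.inv,
    inferInstance, inferInstance, inferInstance,
    isWContractible_of_ringEquiv (Scheme.ΓSpecIso (CommRingCat.of D)).symm.commRingCatIsoToRingEquiv hwc⟩

/-- A family of maps whose restrictions over an open cover contain surjective quasi-compact covers
is covering. -/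
theorem mem_of_local {U : X.ProEt} {ι : Type u} (W : ι → U.left.Opens)
    (hW : ∀ x : U.left, ∃ i, x ∈ W i) {V : ι → X.ProEt} (q : ∀ i, V i ⟶ openObj U (W i))
    [∀ i, Surjective (q i).left] [∀ i, AlgebraicGeometry.QuasiCompact (q i).left]
    (S : Sieve U) (hS : ∀ i, S.arrows (q i ≫ openHom U (W i))) :
    S ∈ Scheme.ProEt.topology X U := by
  refine (Scheme.ProEt.topology X).transitive (openCover_mem W hW) _ fun Z f hf => ?_
  obtain ⟨_, a, _, ⟨i⟩, rfl⟩ := hf
  rw [Sieve.pullback_comp]
  refine (Scheme.ProEt.topology X).pullback_stable a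
    ((Scheme.ProEt.topology X).superset_covering ?_ (singleton_mem (q i)))
  rintro Y g ⟨_, b, _, ⟨⟩, rfl⟩
  show S.arrows ((b ≫ q i) ≫ openHom U (W i))
  rw [Category.assoc]
  exact S.downward_closed (hS i) b

/-- An object covered by disjoint open pieces which are weakly contractible is so. -/
theorem isWC_of_pieces {U : X.ProEt} {ι : Type u} {V : ι → X.ProEt} (c : ∀ i, V i ⟶ U)
    [∀ i, IsOpenImmersion (c i).left]
    (hd : Pairwise fun k l => Disjoint (c k).left.opensRange (c l).left.opensRange)
    (hc : ∀ x : U.left, ∃ i, x ∈ (c i).left.opensRange) (hV : ∀ i, ProEtS.IsWC (V i)) :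
    ProEtS.IsWC U := by
  intro F G φ hφ t
  let W : ι → U.left.Opens := fun i => (c i).left.opensRange
  have hW : Decomp U W := ⟨fun k l hkl => TopologicalSpace.Opens.coe_disjoint.2 (hd hkl), hc⟩
  have ha : ∀ i, ∃ a : openObj U (W i) ⟶ V i, a ≫ c i = openHom U (W i) := by
    intro i
    have hl : IsOpenImmersion.lift (c i).left (W i).ι (by rintro _ ⟨z, rfl⟩; exact z.2) ≫ (c i).left =
        (W i).ι := IsOpenImmersion.lift_fac _ _ _
    refine ⟨MorphismProperty.Over.homMk
      (IsOpenImmersion.lift (c i).left (W i).ι (by rintro _ ⟨z, rfl⟩; exact z.2)) ?_,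
      MorphismProperty.Over.Hom.ext hl⟩
    show _ ≫ (V i).hom = (W i).ι ≫ U.hom
    rw [← MorphismProperty.Over.w (c i), ← Category.assoc]
    exact congrArg (· ≫ U.hom) hl
  choose a ha using ha
  choose x hx using fun i => hV i F G φ hφ (G.obj.map (c i).op t)
  obtain ⟨s, hs⟩ := exists_glue hW F fun i => F.obj.map (a i).op (x i)
  refine ⟨s, glue_ext hW G fun i => ?_⟩
  have h1 : G.obj.map (openHom U (W i)).op t = G.obj.map (a i).op (G.obj.map (c i).op t) := by
    rw [← ha i, op_comp, Functor.map_comp]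
    rfl
  rw [h1, ← hx i]
  have h2 := congr($((φ.hom.naturality (openHom U (W i)).op).symm) s)
  refine h2.trans ?_
  have h3 := congr($(φ.hom.naturality (a i).op) (x i))
  exact (congrArg (φ.hom.app _) (hs i)).trans h3

/-- Affine open covers give affine weakly contractible covering families and objects. -/
theorem exists_cover_data (U : X.ProEt) {ι : Type u} (W : ι → U.left.Opens)
    (hA : ∀ i, IsAffineOpen (W i)) (hW : ∀ x : U.left, ∃ i, x ∈ W i) :
    ∃ (V : ι → X.ProEt) (g : ∀ i, V i ⟶ U),
      (∀ i, IsAffine (V i).left ∧ EtPBC.IsWContractible ↥Γ((V i).left, ⊤)) ∧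
      (∀ S : Sieve U, (∀ i, S.arrows (g i)) → S ∈ Scheme.ProEt.topology X U) := by
  choose V q hV hwe hsur hwc using fun i => have : IsAffine (W i).toScheme := hA i
    exists_wc_over (W i).toScheme
  have : ∀ i, IsAffine (W i).toScheme := hA
  let O : ι → X.ProEt := fun i =>
    have := hwe i
    have : WeaklyEtale U.hom := U.prop
    Scheme.ProEt.mk (q i ≫ (W i).ι ≫ U.hom)
  let Q : ∀ i, O i ⟶ openObj U (W i) := fun i => MorphismProperty.Over.homMk (q i) rfl
  refine ⟨O, fun i => Q i ≫ openHom U (W i), fun i => ⟨hV i, hwc i⟩, fun S hS => ?_⟩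
  have : ∀ i, Surjective (Q i).left := hsur
  have : ∀ i, AlgebraicGeometry.QuasiCompact (Q i).left := fun i =>
    have := hV i
    inferInstanceAs (AlgebraicGeometry.QuasiCompact (q i))
  exact mem_of_local W hW Q S hS

/-- A single weakly contractible covering object attached to an affine open cover. -/
theorem exists_single (U : X.ProEt) {ι : Type u} (W : ι → U.left.Opens)
    (hA : ∀ i, IsAffineOpen (W i)) (hW : ∀ x : U.left, ∃ i, x ∈ W i) :
    ∃ (V : X.ProEt) (g : V ⟶ U), Sieve.generate (Presieve.singleton g) ∈ Scheme.ProEt.topology X U ∧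
      (Finite ι → IsAffine V.left) ∧ ProEtS.IsWC V := by
  obtain ⟨V, g, hV, hmem⟩ := exists_cover_data U W hA hW
  let q : (∐ fun i => (V i).left) ⟶ U.left := Sigma.desc fun i => (g i).left
  have : WeaklyEtale U.hom := U.prop
  have : ∀ i, WeaklyEtale ((g i).left) := fun i => by
    have : WeaklyEtale ((g i).left ≫ U.hom) := by
      rw [MorphismProperty.Over.w]; exact (V i).prop
    exact WeaklyEtale.of_comp (g i).left U.hom
  have : WeaklyEtale q := IsZariskiLocalAtSource.sigmaDesc fun i => this i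
  let O : X.ProEt := Scheme.ProEt.mk (q ≫ U.hom)
  let c : ∀ i, V i ⟶ O := fun i => MorphismProperty.Over.homMk (Sigma.ι (fun i => (V i).left) i) (by
    show Sigma.ι (fun i => (V i).left) i ≫ q ≫ U.hom = (V i).hom
    rw [← Category.assoc, Sigma.ι_desc, MorphismProperty.Over.w])
  let p : O ⟶ U := MorphismProperty.Over.homMk q rfl
  refine ⟨O, p, hmem _ fun i => ⟨O, c i, p, ⟨⟩, MorphismProperty.Over.Hom.ext (Sigma.ι_desc _ _)⟩,
    fun hι => ?_, ?_⟩
  · have : ∀ i, IsAffine (V i).left := fun i => (hV i).1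
    show IsAffine (∐ fun i => (V i).left)
    infer_instance
  · have : ∀ i, IsOpenImmersion (c i).left := fun i =>
      inferInstanceAs (IsOpenImmersion (Sigma.ι (fun i => (V i).left) i))
    refine isWC_of_pieces c (fun k l hkl => disjoint_opensRange_sigmaι _ k l hkl) (fun x => ?_)
      fun i => have := (hV i).1; (isWC_iff (V i)).1 (hV i).2
    obtain ⟨k, y, hy⟩ := (sigmaOpenCover fun i => (V i).left).exists_eq x
    exact ⟨k, y, hy⟩

end Groth.Agent.ProEt91
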