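import Groth.Agent.ProEt91.WC
import Mathlib.CategoryTheory.Limits.Shapes.Opposites.Products
import Mathlib.CategoryTheory.Limits.Preserves.Shapes.Products
import Mathlib.CategoryTheory.Limits.Types.Limits

universe u

open CategoryTheory CategoryTheory.Limits AlgebraicGeometry Opposite

namespace Groth.Agent.ProEt91

set_option backward.isDefEq.respectTransparency.types false

variable {X : Scheme.{u}}

theorem decomp_hom_ext {ι : Type u} {U : X.ProEt} {W : ι → U.left.Opens} (hW : Decomp U W)
    {Y : Scheme.{u}} {f g : U.left ⟶ Y} (h : ∀ i, (W i).ι ≫ f = (W i).ι ≫ g) : f = g :=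
  Scheme.Cover.hom_ext (Scheme.openCoverOfIsOpenCover U.left W
    (by
      rw [TopologicalSpace.IsOpenCover, eq_top_iff]
      intro x _
      exact TopologicalSpace.Opens.mem_iSup.2 (hW.cover x))) _ _ h

theorem overHom_w {U Y : X.ProEt} (f : U ⟶ Y) : f.left ≫ Y.hom = U.hom := MorphismProperty.Over.w f

/-- An object is the coproduct of the pieces of a decomposition. -/
theorem nonempty_isColimit_decomp {ι : Type u} {U : X.ProEt} {W : ι → U.left.Opens} (hW : Decomp U W) :
    Nonempty (IsColimit (Cofan.mk U fun i => openHom U (W i))) := by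
  have hdesc : ∀ s : Cofan fun i => openObj U (W i), ∃ m : U ⟶ s.pt, ∀ i, openHom U (W i) ≫ m = s.inj i := by
    intro s
    obtain ⟨f, hf⟩ := exists_glueHom hW fun i => (s.inj i).left
    refine ⟨MorphismProperty.Over.homMk f (decomp_hom_ext hW fun i => ?_), fun i =>
      MorphismProperty.Over.Hom.ext (hf i)⟩
    show (W i).ι ≫ f ≫ s.pt.hom = (W i).ι ≫ U.hom
    rw [← Category.assoc, hf i]
    exact overHom_w (s.inj i)
  choose m hm using hdesc
  refine ⟨mkCofanColimit _ m hm fun s m' hm' => MorphismProperty.Over.Hom.ext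
    (decomp_hom_ext hW fun i => ?_)⟩
  exact congrArg CommaMorphism.left (congrArg MorphismProperty.Comma.Hom.toCommaMorphism
    ((hm' i).trans (hm s i).symm))

/-- A presheaf preserving finite products sends finite decompositions to products. -/
theorem existsUnique_of_decomp {ι : Type u} [Finite ι] {U : X.ProEt} {W : ι → U.left.Opens}
    (hW : Decomp U W) (F : X.ProEtᵒᵖ ⥤ Type (u + 1)) [PreservesFiniteProducts F]
    (x : ∀ i, F.obj (op (openObj U (W i)))) :
    ∃! a : F.obj (op U), ∀ i, F.map (openHom U (W i)).op a = x i := by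
  obtain ⟨hc⟩ := nonempty_isColimit_decomp hW
  have h1 : IsLimit (Fan.mk (op U) fun i => (openHom U (W i)).op) := Cofan.IsColimit.op hc
  have h2 := isLimitFanMkObjOfIsLimit F _ (fun i => (openHom U (W i)).op) h1
  obtain ⟨a, ha, hu⟩ := (Types.isLimit_iff _).1 ⟨h2⟩ (fun j => x j.as)
    (fun {j j'} f => by
      obtain rfl := Discrete.ext (Discrete.eq_of_hom f)
      rw [Discrete.functor_map_id]
      rfl)
  exact ⟨a, fun i => ha ⟨i⟩, fun b hb => hu b fun j => hb j.as⟩

/-- Sheafification does not change the sections over objects refined by decompositions. -/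
theorem bijective_toSheafify {U : X.ProEt}
    (hU : ∀ S ∈ Scheme.ProEt.topology X U, ∃ (ι : Type u) (_ : Finite ι) (W : ι → U.left.Opens),
      Decomp U W ∧ ∀ k, (S : Sieve U).arrows (openHom U (W k)))
    (F : X.ProEtᵒᵖ ⥤ Type (u + 1)) [PreservesFiniteProducts F] :
    Function.Bijective ((toSheafify (Scheme.ProEt.topology X) F).app (op U)) := by
  set J := Scheme.ProEt.topology X
  refine ⟨fun a b hab => ?_, fun t => ?_⟩
  · obtain ⟨ι, _, W, hW, hk⟩ := hU _ (Presheaf.equalizerSieve_mem J (toSheafify J F) a b hab)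
    exact (existsUnique_of_decomp hW F fun i => F.map (openHom U (W i)).op b).unique hk fun _ => rfl
  · obtain ⟨ι, _, W, hW, hk⟩ := hU _ (Presheaf.imageSieve_mem J (toSheafify J F) t)
    choose x hx using hk
    obtain ⟨a, ha, -⟩ := existsUnique_of_decomp hW F x
    refine ⟨a, glue_ext hW ((presheafToSheaf J (Type (u + 1))).obj F) fun i => ?_⟩
    have h1 := congr($((toSheafify J F).naturality (openHom U (W i)).op) a)
    exact h1.symm.trans ((congrArg _ (ha i)).trans (hx i))

end Groth.Agent.ProEt91
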