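import Groth.Prelude.Def_ProEtS
import Mathlib.CategoryTheory.Adjunction.Triple

universe u

open CategoryTheory CategoryTheory.Limits AlgebraicGeometry Opposite

namespace Groth.Agent.ProEt91

set_option backward.isDefEq.respectTransparency.types false

theorem isIso_lift_of_mono {A U X : Scheme.{u}} (a : A ⟶ U) (j : U ⟶ X) [Mono j] :
    IsIso (pullback.lift (𝟙 A) a (Category.id_comp _) : A ⟶ pullback (a ≫ j) j) := by
  refine ⟨pullback.fst (a ≫ j) j, pullback.lift_fst _ _ _, ?_⟩
  apply pullback.hom_ext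
  · rw [Category.assoc, pullback.lift_fst, Category.id_comp]
    exact Category.comp_id _
  · rw [← cancel_mono j, Category.assoc, Category.assoc, pullback.lift_snd_assoc, Category.id_comp]
    exact pullback.condition

theorem isIso_adj {U X : Scheme.{u}} (j : U ⟶ X) [WeaklyEtale j] [Mono j] [ProEtS.JPCont j]
    [ProEtS.PCont j] (F G : ProEtS.AbP U) :
    IsIso ((ProEtS.extZeroPAdj j).unit.app F) ∧ IsIso ((ProEtS.pullPushAdjP j).counit.app G) := by
  let L := ProEtS.compP j
  let R := ProEtS.bcP j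
  let adj : L ⊣ R :=
    MorphismProperty.Over.mapPullbackAdj @WeaklyEtale ⊤ j (inferInstanceAs (WeaklyEtale j)) trivial
  have hu : ∀ A : U.ProEt, IsIso (adj.unit.app A) := by
    intro A
    have h1 : IsIso (pullback.lift (𝟙 A.left) A.hom (Category.id_comp _) :
        A.left ⟶ pullback (A.hom ≫ j) j) := by
      exact isIso_lift_of_mono A.hom j
    have : IsIso ((Scheme.ProEt.forget U).map (adj.unit.app A)) := by
      have : IsIso ((Over.forget U).map ((Scheme.ProEt.forget U).map (adj.unit.app A))) := h1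
      exact isIso_of_reflects_iso _ (Over.forget U)
    exact isIso_of_reflects_iso _ (Scheme.ProEt.forget U)
  have : IsIso adj.unit := NatIso.isIso_of_isIso_app _
  let η : L ⋙ R ≅ 𝟭 _ := (asIso adj.unit).symm
  let adj₂ := adj.sheafPushforwardContinuous (E := AddCommGrpCat.{u + 1}) (Scheme.ProEt.topology U)
    (Scheme.ProEt.topology X)
  let e₂ : ProEtS.pushP j ⋙ ProEtS.restrP j ≅ 𝟭 _ :=
    Functor.sheafPushforwardContinuousComp' η _ _ (Scheme.ProEt.topology X) (Scheme.ProEt.topology U) ≪≫
      Functor.sheafPushforwardContinuousId _ _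
  have hc : IsIso adj₂.counit := adj₂.isIso_counit_of_iso e₂
  let t : Adjunction.Triple (ProEtS.extZeroP j) (ProEtS.restrP j) (ProEtS.pushP j) :=
    ⟨ProEtS.extZeroPAdj j, adj₂⟩
  have h1 : IsIso (ProEtS.extZeroPAdj j).unit := t.isIso_unit_iff_isIso_counit.2 hc
  have h2 : IsIso (ProEtS.pullPushAdjP j).counit :=
    (ProEtS.pullPushAdjP j).isIso_counit_of_iso
      (Functor.isoWhiskerLeft (ProEtS.pushP j) ((ProEtS.pullPushAdjP j).leftAdjointUniq adj₂) ≪≫ e₂)
  exact ⟨inferInstance, inferInstance⟩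

end Groth.Agent.ProEt91
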