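import Groth.Agent.ProEt91.Cont

universe u v

open CategoryTheory CategoryTheory.Limits AlgebraicGeometry Opposite

namespace Groth.Agent.ProEt91

set_option backward.isDefEq.respectTransparency.types false

variable {X : Scheme.{u}}

instance : PreservesLimitsOfShape WalkingCospan (Scheme.ProEt.forget X ⋙ Over.forget X) :=
  inferInstanceAs (PreservesLimitsOfShape WalkingCospan (Scheme.ProEt.forget X ⋙ Over.forget X))

instance instStable : (Scheme.ProEt.precoverage X).IsStableUnderBaseChange := by
  unfold Scheme.ProEt.precoverage; infer_instance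

instance instComp : (Scheme.ProEt.precoverage X).IsStableUnderComposition := by
  unfold Scheme.ProEt.precoverage; infer_instance

instance instIsos : (Scheme.ProEt.precoverage X).HasIsos := by
  unfold Scheme.ProEt.precoverage; infer_instance

instance instPullbacks : (Scheme.ProEt.precoverage X).HasPullbacks where
  hasPullbacks_of_mem _ _ := ⟨fun _ => inferInstance⟩

theorem mem_topology_iff_exists {U : X.ProEt} {S : Sieve U} :
    S ∈ Scheme.ProEt.topology X U ↔ ∃ R ∈ Scheme.ProEt.precoverage X U, R ≤ S.arrows :=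
  Precoverage.mem_toGrothendieck_iff_of_isStableUnderComposition

/-- A family in the site whose underlying family is quasi-compact and jointly surjective covers. -/
theorem ofArrows_mem_precoverage {U : X.ProEt} {ι : Type u} (Y : ι → X.ProEt)
    (f : ∀ i, Y i ⟶ U) (hq : QuasiCompactCover (PreZeroHypercover.mk ι (fun i => (Y i).left) fun i => (f i).left))
    (hs : ∀ x : U.left, ∃ i, x ∈ Set.range (f i).left) :
    Presieve.ofArrows Y f ∈ Scheme.ProEt.precoverage X U := by
  show (Presieve.ofArrows Y f).map (Scheme.ProEt.forget X ⋙ Over.forget X) ∈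
    Scheme.proetalePrecoverage U.left
  rw [Presieve.map_ofArrows]
  refine ⟨(Scheme.presieve₀_mem_qcPrecoverage_iff
    (E := PreZeroHypercover.mk ι (fun i => (Y i).left) fun i => (f i).left)).2 hq,
    (Scheme.ofArrows_mem_precoverage_iff _).2 ⟨hs, fun i => ?_⟩⟩
  have : WeaklyEtale ((f i).left ≫ U.hom) := by
    rw [MorphismProperty.Over.w]; exact (Y i).prop
  have : WeaklyEtale U.hom := U.prop
  exact WeaklyEtale.of_comp (f i).left U.hom

/-- The open subscheme as an object of the site. -/
noncomputable abbrev openObj (U : X.ProEt) (W : U.left.Opens) : X.ProEt :=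
  Scheme.ProEt.mk (W.ι ≫ U.hom)

/-- Its inclusion. -/
noncomputable abbrev openHom (U : X.ProEt) (W : U.left.Opens) : openObj U W ⟶ U :=
  MorphismProperty.Over.homMk W.ι

theorem openCover_mem {U : X.ProEt} {ι : Type u} (W : ι → U.left.Opens)
    (h : ∀ x : U.left, ∃ i, x ∈ W i) :
    Sieve.generate (Presieve.ofArrows (fun i => openObj U (W i)) fun i => openHom U (W i)) ∈
      Scheme.ProEt.topology X U := by
  refine Precoverage.generate_mem_toGrothendieck (ofArrows_mem_precoverage _ _ ?_ fun x => ?_)
  · refine ⟨fun {V} hV => .of_isOpenMap (fun i => (W i).ι.continuous)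
      (fun i => (W i).ι.isOpenEmbedding.isOpenMap) (fun x _ => ?_) V.2 hV.isCompact⟩
    obtain ⟨i, hi⟩ := h x
    exact ⟨i, ⟨x, hi⟩, rfl⟩
  · obtain ⟨i, hi⟩ := h x
    exact ⟨i, ⟨x, hi⟩, rfl⟩

theorem singleton_mem {U V : X.ProEt} (f : V ⟶ U) [Surjective f.left]
    [AlgebraicGeometry.QuasiCompact f.left] :
    Sieve.generate (Presieve.singleton f) ∈ Scheme.ProEt.topology X U := by
  rw [← Presieve.ofArrows_pUnit.{u}]
  refine Precoverage.generate_mem_toGrothendieck (ofArrows_mem_precoverage _ _
    (inferInstanceAs (QuasiCompactCover (PreZeroHypercover.singleton f.left))) fun x => ?_)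
  obtain ⟨y, hy⟩ := f.left.surjective x
  exact ⟨PUnit.unit, y, hy⟩

/-- Sections of a sheaf over an empty object. -/
theorem subsingleton_of_isEmpty (F : Sheaf (Scheme.ProEt.topology X) (Type (u + 1))) (V : X.ProEt)
    [IsEmpty V.left] : Subsingleton (F.obj.obj (op V)) := by
  refine ⟨fun a b => ?_⟩
  exact Presieve.IsSeparatedFor.ext
    (((isSheaf_iff_isSheaf_of_type _ _).1 F.property).isSeparated _ (Scheme.ProEt.bot_mem_topology V))
    (fun Y f hf => hf.elim)

end Groth.Agent.ProEt91
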