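import Groth.Agent.ProEt91.Refine
import Mathlib.CategoryTheory.Sites.EpiMono
import Mathlib.CategoryTheory.Sites.Subcanonical

universe u

open CategoryTheory CategoryTheory.Limits AlgebraicGeometry Opposite

namespace Groth.Agent.ProEt91

set_option backward.isDefEq.respectTransparency.types false

variable {X : Scheme.{u}}

/-- Refinement of covers by decompositions, as a property. -/
def Refines (U : X.ProEt) : Prop :=
  ∀ S ∈ Scheme.ProEt.topology X U, ∃ (ι : Type u) (W : ι → U.left.Opens),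
    Decomp U W ∧ ∀ k, (S : Sieve U).arrows (openHom U (W k))

theorem refines_of_isWContractible (U : X.ProEt) [IsAffine U.left]
    (hU : EtPBC.IsWContractible ↥Γ(U.left, ⊤)) : Refines U := fun _ hS => by
  obtain ⟨_, W, hW, h⟩ := exists_decomp U hU hS
  exact ⟨_, W, hW, h⟩

theorem isWC_of_refines {U : X.ProEt} (h : Refines U) : ProEtS.IsWC U := by
  intro F G φ hφ t
  have : Presheaf.IsLocallySurjective (Scheme.ProEt.topology X) φ.hom :=
    (Sheaf.isLocallySurjective_iff_epi' (Type (u + 1)) φ).2 hφ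
  obtain ⟨ι, W, hW, hk⟩ := h _ (Presheaf.imageSieve_mem (Scheme.ProEt.topology X) φ.hom t)
  choose x hx using hk
  obtain ⟨s, hs⟩ := exists_glue hW F x
  refine ⟨s, glue_ext hW G fun i => ?_⟩
  rw [← hx i, ← hs i]
  exact congr($((φ.hom.naturality (openHom U (W i)).op).symm) s)

theorem exists_section_of_isWC {U V : X.ProEt} (hU : ProEtS.IsWC U) (f : V ⟶ U)
    [Surjective f.left] [AlgebraicGeometry.QuasiCompact f.left] :
    ∃ s : U ⟶ V, s ≫ f = 𝟙 U := by
  have hepi : Epi ((GrothendieckTopology.uliftYoneda.{u + 1} (Scheme.ProEt.topology X)).map f) := by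
    refine (Sheaf.isLocallySurjective_iff_epi' (Type (u + 1)) _).1 ?_
    refine ⟨fun {T} t => ?_⟩
    obtain ⟨g⟩ := t
    refine (Scheme.ProEt.topology X).superset_covering ?_
      ((Scheme.ProEt.topology X).pullback_stable g (singleton_mem f))
    rintro Z a ⟨_, b, _, ⟨⟩, hb⟩
    exact ⟨ULift.up b, congrArg ULift.up hb⟩
  obtain ⟨s, hs⟩ := hU _ _ ((GrothendieckTopology.uliftYoneda.{u + 1} (Scheme.ProEt.topology X)).map f) hepi (ULift.up (𝟙 U))
  exact ⟨s.down, congrArg ULift.down hs⟩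

theorem isWContractible_of_sections (U : X.ProEt) [IsAffine U.left]
    (h : ∀ {V : X.ProEt} (f : V ⟶ U) [Surjective f.left] [AlgebraicGeometry.QuasiCompact f.left],
      ∃ s : U ⟶ V, s ≫ f = 𝟙 U) : EtPBC.IsWContractible ↥Γ(U.left, ⊤) := by
  intro B _ _ hff hwe
  have := WE91.weaklyEtale_SpecMap_algebraMap Γ(U.left, ⊤) B
  let q : Spec (CommRingCat.of B) ⟶ U.left :=
    Spec.map (CommRingCat.ofHom (algebraMap Γ(U.left, ⊤) B)) ≫ U.left.isoSpec.inv
  have : Surjective (Spec.map (CommRingCat.ofHom (algebraMap Γ(U.left, ⊤) B))) :=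
    ⟨PrimeSpectrum.comap_surjective_of_faithfullyFlat⟩
  have : WeaklyEtale U.hom := U.prop
  let V : X.ProEt := Scheme.ProEt.mk (q ≫ U.hom)
  let f : V ⟶ U := MorphismProperty.Over.homMk q
  have : Surjective f.left := inferInstanceAs (Surjective q)
  have : AlgebraicGeometry.QuasiCompact f.left :=
    inferInstanceAs (AlgebraicGeometry.QuasiCompact q)
  obtain ⟨s, hs⟩ := h f
  let s' : U.left ⟶ Spec (CommRingCat.of B) := s.left
  have hs' : s' ≫ q = 𝟙 U.left :=
    congrArg CommaMorphism.left (congrArg MorphismProperty.Comma.Hom.toCommaMorphism hs)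
  let ψ : CommRingCat.of B ⟶ Γ(U.left, ⊤) := (Scheme.ΓSpecIso (CommRingCat.of B)).inv ≫ s'.appTop
  refine ⟨{ ψ.hom with commutes' := fun a => ?_ }⟩
  have h1 : CommRingCat.ofHom (algebraMap Γ(U.left, ⊤) B) ≫ ψ = 𝟙 _ := by
    have h2 : q.appTop = CommRingCat.ofHom (algebraMap Γ(U.left, ⊤) B) ≫
        (Scheme.ΓSpecIso (CommRingCat.of B)).inv := by
      have h3 : U.left.isoSpec.inv.appTop ≫ (Scheme.ΓSpecIso Γ(U.left, ⊤)).hom = 𝟙 _ := by
        rw [← Scheme.toSpecΓ_appTop, ← Scheme.Hom.comp_appTop, ← Scheme.isoSpec_hom,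
          Iso.hom_inv_id, Scheme.Hom.id_appTop]
      have h4 : U.left.isoSpec.inv.appTop = (Scheme.ΓSpecIso Γ(U.left, ⊤)).inv :=
        ((Iso.comp_hom_eq_id _).1 h3)
      show (Spec.map (CommRingCat.ofHom (algebraMap Γ(U.left, ⊤) B)) ≫ U.left.isoSpec.inv).appTop = _
      rw [Scheme.Hom.comp_appTop, h4]
      exact (Scheme.ΓSpecIso_inv_naturality (CommRingCat.ofHom (algebraMap Γ(U.left, ⊤) B))).symm
    rw [← Category.assoc, ← h2, ← Scheme.Hom.comp_appTop, hs', Scheme.Hom.id_appTop]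
    rfl
  exact congr($(h1) a)

theorem isWC_iff (U : X.ProEt) [IsAffine U.left] :
    EtPBC.IsWContractible ↥Γ(U.left, ⊤) ↔ ProEtS.IsWC U :=
  ⟨fun h => isWC_of_refines (refines_of_isWContractible U h),
    fun h => isWContractible_of_sections U fun f => exists_section_of_isWC h f⟩

end Groth.Agent.ProEt91
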