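import Groth.Agent.ProEt91.Clopen
import Groth.Prelude.Def_PBC
import Mathlib.AlgebraicGeometry.Limits

universe u

open CategoryTheory CategoryTheory.Limits AlgebraicGeometry Opposite

namespace Groth.Agent.ProEt91

set_option backward.isDefEq.respectTransparency.types false

variable {X : Scheme.{u}}

/-- An affine surjective weakly etale scheme over a w-contractible affine scheme has a section. -/
theorem exists_section_of_isWContractible {U W : Scheme.{u}} [IsAffine U] [IsAffine W]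
    (hU : EtPBC.IsWContractible ↥Γ(U, ⊤)) (q : W ⟶ U) [WeaklyEtale q] [Surjective q] :
    ∃ s : U ⟶ W, s ≫ q = 𝟙 U := by
  letI : Algebra Γ(U, ⊤) Γ(W, ⊤) := q.appTop.hom.toAlgebra
  have hq : Spec.map q.appTop = W.isoSpec.inv ≫ q ≫ U.isoSpec.hom := by
    rw [← Scheme.isoSpec_hom_naturality, Iso.inv_hom_id_assoc]
  have h1 : WeaklyEtale (Spec.map (CommRingCat.ofHom (algebraMap Γ(U, ⊤) Γ(W, ⊤)))) := by
    show WeaklyEtale (Spec.map q.appTop)
    rw [hq]; infer_instance
  have hflat : Module.Flat Γ(U, ⊤) Γ(W, ⊤) := RingHom.flat_algebraMap_iff.1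
    ((HasRingHomProperty.Spec_iff (P := @Flat)).1 h1.flat)
  have hwe : Algebra.WeaklyEtale Γ(U, ⊤) Γ(W, ⊤) := by
    refine ⟨hflat, ?_⟩
    have h2 := h1.flat_diagonal
    rw [diagonal_SpecMap, MorphismProperty.cancel_right_of_respectsIso @Flat,
      HasRingHomProperty.Spec_iff (P := @Flat)] at h2
    exact h2
  have hff : Module.FaithfullyFlat Γ(U, ⊤) Γ(W, ⊤) := by
    refine Module.FaithfullyFlat.of_comap_surjective fun p => ?_
    have : Surjective (Spec.map q.appTop) := by rw [hq]; infer_instance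
    exact (Spec.map q.appTop).surjective p
  obtain ⟨ρ⟩ := hU Γ(W, ⊤) hff hwe
  refine ⟨U.isoSpec.hom ≫ Spec.map (CommRingCat.ofHom ρ.toRingHom) ≫ W.isoSpec.inv, ?_⟩
  have h3 : q.appTop ≫ CommRingCat.ofHom ρ.toRingHom = 𝟙 _ :=
    CommRingCat.hom_ext (RingHom.ext fun a => ρ.commutes a)
  have h4 : W.isoSpec.inv ≫ q = Spec.map q.appTop ≫ U.isoSpec.inv := by
    rw [hq]; simp
  rw [Category.assoc, Category.assoc, h4, ← Category.assoc (Spec.map _), ← Spec.map_comp, h3,
    Spec.map_id, Category.id_comp, Iso.hom_inv_id]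

/-- Covers of a w-contractible affine object are refined by decompositions into open pieces. -/
theorem exists_decomp (U : X.ProEt) [IsAffine U.left] (hU : EtPBC.IsWContractible ↥Γ(U.left, ⊤))
    {S : Sieve U} (hS : S ∈ Scheme.ProEt.topology X U) :
    ∃ (n : ℕ) (W : ULift.{u} (Fin n) → U.left.Opens), Decomp U W ∧
      ∀ k, S.arrows (openHom U (W k)) := by
  obtain ⟨R, hR, hle⟩ := mem_topology_iff_exists.1 hS
  obtain ⟨ι, Y, f, rfl⟩ := R.exists_eq_ofArrows
  have hR' : (Presieve.ofArrows Y f).map (Scheme.ProEt.forget X ⋙ Over.forget X) ∈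
      Scheme.proetalePrecoverage U.left := hR
  rw [Presieve.map_ofArrows] at hR'
  have hqc : QuasiCompactCover (PreZeroHypercover.mk ι (fun i => (Y i).left) fun i => (f i).left) :=
    Scheme.presieve₀_mem_qcPrecoverage_iff.1 hR'.1
  have hwe : ∀ i, WeaklyEtale (f i).left := ((Scheme.ofArrows_mem_precoverage_iff _).1 hR'.2).2
  obtain ⟨n, a, V, hV, hcov⟩ := QuasiCompactCover.exists_isAffineOpen_of_isCompact
    (PreZeroHypercover.mk ι (fun i => (Y i).left) fun i => (f i).left)
    (U := (⊤ : U.left.Opens)) isCompact_univ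
  let V' : ULift.{u} (Fin n) → Scheme.{u} := fun k => (V k.down).toScheme
  have : ∀ k, IsAffine (V' k) := fun k => hV k.down
  let m : ∀ k, V' k ⟶ U.left := fun k => (V k.down).ι ≫ (f (a k.down)).left
  have : ∀ k, WeaklyEtale (m k) := fun k => by
    have := hwe (a k.down)
    infer_instance
  let q : (∐ V') ⟶ U.left := Sigma.desc m
  have : WeaklyEtale q := IsZariskiLocalAtSource.sigmaDesc fun k => this k
  have : Surjective q := ⟨fun x => by
    obtain ⟨k, y, hy, hyx⟩ := Set.mem_iUnion.1 (hcov.ge (Set.mem_univ x))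
    refine ⟨Sigma.ι V' ⟨k⟩ ⟨y, hy⟩, ?_⟩
    rw [← Scheme.Hom.comp_apply, Sigma.ι_desc]
    exact hyx⟩
  obtain ⟨s, hs⟩ := exists_section_of_isWContractible hU q
  refine ⟨n, fun k => s ⁻¹ᵁ (Sigma.ι V' k).opensRange, ⟨fun k l hkl => ?_, fun x => ?_⟩, fun k => ?_⟩
  · exact (TopologicalSpace.Opens.coe_disjoint.2 (disjoint_opensRange_sigmaι V' k l hkl)).preimage s
  · obtain ⟨k, y, hy⟩ := (sigmaOpenCover V').exists_eq (s x)
    exact ⟨k, y, hy⟩
  · let l : (s ⁻¹ᵁ (Sigma.ι V' k).opensRange).toScheme ⟶ V' k :=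
      IsOpenImmersion.lift (Sigma.ι V' k) ((s ⁻¹ᵁ (Sigma.ι V' k).opensRange).ι ≫ s) (by
        rintro _ ⟨z, rfl⟩
        exact z.2)
    have hl : l ≫ Sigma.ι V' k = (s ⁻¹ᵁ (Sigma.ι V' k).opensRange).ι ≫ s :=
      IsOpenImmersion.lift_fac _ _ _
    have key : l ≫ (V k.down).ι ≫ (f (a k.down)).left = (s ⁻¹ᵁ (Sigma.ι V' k).opensRange).ι := by
      rw [show (V k.down).ι ≫ (f (a k.down)).left = Sigma.ι V' k ≫ q from (Sigma.ι_desc m k).symm,
        ← Category.assoc, hl, Category.assoc, hs, Category.comp_id]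
    let g : openObj U (s ⁻¹ᵁ (Sigma.ι V' k).opensRange) ⟶ Y (a k.down) :=
      MorphismProperty.Over.homMk (l ≫ (V k.down).ι) (by
        show (l ≫ (V k.down).ι) ≫ (Y (a k.down)).hom = _
        rw [← MorphismProperty.Over.w (f (a k.down)), ← Category.assoc (l ≫ (V k.down).ι),
          Category.assoc l, key]
        rfl)
    have : openHom U (s ⁻¹ᵁ (Sigma.ι V' k).opensRange) = g ≫ f (a k.down) := by
      refine MorphismProperty.Over.Hom.ext ?_
      show _ = (l ≫ (V k.down).ι) ≫ (f (a k.down)).left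
      rw [Category.assoc, key]
      rfl
    rw [this]
    exact S.downward_closed (hle _ _ (Presieve.ofArrows.mk (a k.down))) g

end Groth.Agent.ProEt91
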