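import Groth.Agent.ProEt91.Site
import Groth.Agent.WE91.Scheme

universe u

open CategoryTheory CategoryTheory.Limits AlgebraicGeometry Opposite

namespace Groth.Agent.ProEt91

set_option backward.isDefEq.respectTransparency.types false

variable {X : Scheme.{u}}

/-- The data of a finite decomposition into disjoint opens. -/
structure Decomp {ι : Type u} (U : X.ProEt) (W : ι → U.left.Opens) : Prop where
  disj : Pairwise (fun k l => Disjoint (W k : Set ↥U.left) (W l))
  cover : ∀ x : U.left, ∃ i, x ∈ W i

theorem isEmpty_of_ne {ι : Type u} {U : X.ProEt} {W : ι → U.left.Opens} (hW : Decomp U W) {i j : ι}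
    (hij : i ≠ j) {Z : Scheme.{u}} (a : Z ⟶ (W i).toScheme) (b : Z ⟶ (W j).toScheme)
    (h : a ≫ (W i).ι = b ≫ (W j).ι) : IsEmpty Z := by
  refine ⟨fun z => ?_⟩
  have h1 : (W i).ι (a z) ∈ W i := (a z).2
  have h2 : (W j).ι (b z) ∈ W j := (b z).2
  have h3 : (W i).ι (a z) = (W j).ι (b z) := by
    rw [← Scheme.Hom.comp_apply, ← Scheme.Hom.comp_apply, h]
  exact Set.disjoint_left.1 (hW.disj hij) h1 (h3 ▸ h2)

theorem isSheafFor_decomp {ι : Type u} {U : X.ProEt} {W : ι → U.left.Opens} (hW : Decomp U W)
    (F : Sheaf (Scheme.ProEt.topology X) (Type (u + 1))) :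
    Presieve.IsSheafFor F.obj
      (Presieve.ofArrows (fun i => openObj U (W i)) fun i => openHom U (W i)) := by
  rw [Presieve.isSheafFor_iff_generate]
  exact (isSheaf_iff_isSheaf_of_type _ _).1 F.property _ (openCover_mem W hW.cover)

theorem compatible_decomp {ι : Type u} {U : X.ProEt} {W : ι → U.left.Opens} (hW : Decomp U W)
    (F : Sheaf (Scheme.ProEt.topology X) (Type (u + 1))) (x : ∀ i, F.obj.obj (op (openObj U (W i)))) :
    Presieve.Arrows.Compatible F.obj (fun i => openHom U (W i)) x := by
  intro i j Z gi gj h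
  by_cases hij : i = j
  · subst hij
    have : gi = gj := by
      refine MorphismProperty.Over.Hom.ext ?_
      refine (cancel_mono (W i).ι).1 ?_
      exact congrArg CommaMorphism.left (congrArg MorphismProperty.Comma.Hom.toCommaMorphism h)
    rw [this]
  · have := isEmpty_of_ne hW hij gi.left gj.left
      (congrArg CommaMorphism.left (congrArg MorphismProperty.Comma.Hom.toCommaMorphism h))
    exact (subsingleton_of_isEmpty F Z).elim _ _

/-- Local sections on the pieces of a decomposition glue. -/
theorem exists_glue {ι : Type u} {U : X.ProEt} {W : ι → U.left.Opens} (hW : Decomp U W)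
    (F : Sheaf (Scheme.ProEt.topology X) (Type (u + 1))) (x : ∀ i, F.obj.obj (op (openObj U (W i)))) :
    ∃ t : F.obj.obj (op U), ∀ i, F.obj.map (openHom U (W i)).op t = x i :=
  ((Presieve.isSheafFor_arrows_iff F.obj _).1 (isSheafFor_decomp hW F) x
    (compatible_decomp hW F x)).exists

theorem glue_ext {ι : Type u} {U : X.ProEt} {W : ι → U.left.Opens} (hW : Decomp U W)
    (F : Sheaf (Scheme.ProEt.topology X) (Type (u + 1))) {s t : F.obj.obj (op U)}
    (h : ∀ i, F.obj.map (openHom U (W i)).op s = F.obj.map (openHom U (W i)).op t) : s = t := by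
  refine (isSheafFor_decomp hW F).isSeparatedFor.ext ?_
  rintro _ _ ⟨i⟩
  exact h i

/-- Morphisms on the pieces of a decomposition glue. -/
theorem exists_glueHom {ι : Type u} {U : X.ProEt} {W : ι → U.left.Opens} (hW : Decomp U W)
    {Y : Scheme.{u}} (g : ∀ i, (W i).toScheme ⟶ Y) :
    ∃ f : U.left ⟶ Y, ∀ i, (W i).ι ≫ f = g i := by
  let 𝒰 : U.left.OpenCover := Scheme.openCoverOfIsOpenCover U.left W
    (by
      rw [TopologicalSpace.IsOpenCover, eq_top_iff]
      intro x _
      exact TopologicalSpace.Opens.mem_iSup.2 (hW.cover x))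
  have hcond : ∀ i j, pullback.fst (𝒰.f i) (𝒰.f j) ≫ g i = pullback.snd (𝒰.f i) (𝒰.f j) ≫ g j := by
    intro i j
    by_cases hij : i = j
    · subst hij
      have : pullback.fst (W i).ι (W i).ι = pullback.snd (W i).ι (W i).ι := by
        rw [← cancel_mono (W i).ι]; exact pullback.condition
      exact congrArg (· ≫ g i) this
    · have := isEmpty_of_ne hW hij (pullback.fst (W i).ι (W j).ι) (pullback.snd (W i).ι (W j).ι)
        pullback.condition
      exact (isInitialOfIsEmpty (X := pullback (W i).ι (W j).ι)).hom_ext _ _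
  exact ⟨𝒰.glueMorphisms g hcond, fun i => 𝒰.ι_glueMorphisms g hcond i⟩

end Groth.Agent.ProEt91
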